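import Cfsg.Agent.SP4.Defs
import Cfsg.Agent.H83.SP4D
import Cfsg.Agent.ON.Gen
import Cfsg.Agent.H56.Fields

/-! Project SP4: the groups `2 × A₆`, `2² · L₃(4)` and `2² · L₃(4) . 3`. -/

set_option autoImplicit false
set_option maxRecDepth 100000

namespace Cfsg.Agent.SP4

open Subgroup Cfsg.Agent.SR3

namespace MD

open H14 H56 ON

section
variable {K : Type*} [Field K] [Fintype K] {G : Type*} [Group G]

/-- `w` maps the image of `H` into itself -/
def Nm (ψ : U K →* G) (H : Subgroup (U K)) (w : G) : Prop := ∀ a ∈ H, ∃ b ∈ H, w * ψ a = ψ b * w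

theorem nm_iff {ψ : U K →* G} {H : Subgroup (U K)} {w : G} : w ∈ nm (H.map ψ) ↔ Nm ψ H w := by
  refine ⟨fun h a ha => ?_, fun h => ?_⟩
  · obtain ⟨b, hb, e⟩ := (mem_normalizer_iff.1 h _).1 ⟨a, ha, rfl⟩
    exact ⟨b, hb, by rw [e, inv_mul_cancel_right]⟩
  · have : Finite (H.map ψ : Set G) := (Set.toFinite (H : Set (U K))).image ψ
    refine mem_normalizer_fintype ?_
    rintro _ ⟨a, ha, rfl⟩
    obtain ⟨b, hb, e⟩ := h a ha
    exact ⟨b, hb, by rw [e, mul_inv_cancel_right]⟩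

theorem md_of [Finite G] {ψ : U K →* G} (hi : Function.Injective ψ) {e m : ℕ}
    (hK : Fintype.card K = 2 ^ e) (hm : Odd m) (hG : Nat.card G = (2 ^ e) ^ 4 * m) {w₁ w₂ : G}
    (h1 : Nm ψ (A1 K) w₁) (k1 : ¬ Nm ψ (Y K) w₁) (h2 : Nm ψ (A2 K) w₂) (k2 : ¬ Nm ψ (Y K) w₂)
    (H : Subgroup G) (hψ : ∀ a, ψ a ∈ H) (m1 : w₁ ∈ H) (m2 : w₂ ∈ H)
    (hz : ∀ g ∈ H, Nm ψ (Zl K) g) : Md (ψ.codRestrict H hψ) := by
  have : Fact (Nat.Prime 2) := ⟨Nat.prime_two⟩
  have key : ∀ (X : Subgroup (U K)) (w : H), w ∈ nm (X.map (ψ.codRestrict H hψ)) ↔ Nm ψ X w :=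
    fun X w => nm_iff.trans (forall₂_congr fun a _ => exists_congr fun b => and_congr_right
      fun _ => Subtype.ext_iff)
  have hi' : Function.Injective (ψ.codRestrict H hψ) := fun a b e => hi (congrArg Subtype.val e)
  have hc : Nat.card (ψ.codRestrict H hψ).range = (2 ^ e) ^ 4 := by
    rw [← Nat.card_congr (MonoidHom.ofInjective hi').toEquiv, Nat.card_congr U.equiv]
    rw [Nat.card_prod, Nat.card_prod, Nat.card_prod, Nat.card_eq_fintype_card, hK]
    ring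
  refine ⟨hi', ⟨(IsPGroup.of_card (n := e * 4) (hc.trans (pow_mul ..).symm)).toSylow fun hd => ?_, rfl⟩,
    normalizer_eq_top_iff.1 (eq_top_iff.2 fun g _ => (key _ g).2 (hz g g.2)),
    fun h => k1 ((key _ ⟨_, m1⟩).1 (h ((key _ ⟨_, m1⟩).2 h1))),
    fun h => k2 ((key _ ⟨_, m2⟩).1 (h ((key _ ⟨_, m2⟩).2 h2)))⟩
  have := H.card_mul_index
  rw [← (ψ.codRestrict H hψ).range.card_mul_index, hc, hG, mul_assoc] at this
  exact hm.not_two_dvd_nat (Nat.eq_of_mul_eq_mul_left (by positivity) this ▸ hd.mul_right _)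

end

/-- the word of a quadruple -/
noncomputable def wq (I : ℕ) (s v r c : List ℕ) (t x y z : ℕ) : List ℕ :=
  [nthD v I x, nthD r I y, nthD c I z, nthD s I t]

/-- the relations of `exists_hom` and injectivity -/
noncomputable def relB (t : FT) (k M I : ℕ) (bs s v r c : List ℕ) : Bool :=
  Nat.beq (op2 t.b t.B t.A 1 1) 0 && allN t.q fun a => allN t.q fun b =>
    (allL [s, v, r, c] fun l => eqB k M bs [nthD l I (op2 t.b t.B t.A a b)] [nthD l I a, nthD l I b]) &&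
    (allL [(s, r), (s, c), (v, r), (v, c), (r, c)] fun l =>
      eqB k M bs [nthD l.1 I a, nthD l.2 I b] [nthD l.2 I b, nthD l.1 I a]) &&
    eqB k M bs [nthD s I a, nthD v I b] (wq I s v r c a b (op2 t.b t.B t.T a b)
      (op2 t.b t.B t.T (op2 t.b t.B t.T a a) b)) &&
    allN t.q fun y => allN t.q fun z => bimp (eqB k M bs (wq I s v r c a b y z) [])
      (Nat.beq a 0 && Nat.beq b 0 && Nat.beq y 0 && Nat.beq z 0)

/-- the normaliser test -/
noncomputable def nB (k M I : ℕ) (bs s v r c : List ℕ) (n1 n2 n3 n4 w : ℕ) : Bool :=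
  allN n1 fun t => allN n2 fun x => allN n3 fun y => allN n4 fun z =>
    anyN n1 fun t' => anyN n2 fun x' => anyN n3 fun y' => anyN n4 fun z' =>
      eqB k M bs (w :: wq I s v r c t x y z) (wq I s v r c t' x' y' z' ++ [w])

/-- the centraliser test -/
noncomputable def cB (k M I : ℕ) (bs c : List ℕ) (q w : ℕ) : Bool :=
  allN q fun z => eqB k M bs [w, nthD c I z] [nthD c I z, w]

theorem exists_model {α : Type} {n k M : ℕ} {E : Enc α n k M} {Γ : Subgroup (Equiv.Perm α)}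
    {Ls : List Lev} (t : FT) [t.OK] (hC : E.IsChain Ls Γ) {s v r c : List ℕ}
    (hin : memOK k M n Ls (s ++ (v ++ (r ++ c))) = true)
    (h : relB t k M (idP k n) (Ls.map Lev.b) s v r c = true) {K : Type*} [Field K] [Fintype K]
    (hK : Fintype.card K = t.q) : ∃ ψ : U K →* Γ, Function.Injective ψ ∧ ∀ w, E.InG Γ w →
      (Nm ψ ⊤ (elt E Γ w) ↔ nB k M (idP k n) (Ls.map Lev.b) s v r c t.q t.q t.q t.q w = true) ∧
      (Nm ψ (A1 K) (elt E Γ w) ↔ nB k M (idP k n) (Ls.map Lev.b) s v r c 1 t.q t.q t.q w = true) ∧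
      (Nm ψ (A2 K) (elt E Γ w) ↔ nB k M (idP k n) (Ls.map Lev.b) s v r c t.q 1 t.q t.q w = true) ∧
      (Nm ψ (Y K) (elt E Γ w) ↔ nB k M (idP k n) (Ls.map Lev.b) s v r c 1 1 t.q t.q w = true) ∧
      (Nm ψ (Zl K) (elt E Γ w) ↔ nB k M (idP k n) (Ls.map Lev.b) s v r c 1 1 1 t.q w = true) ∧
      (elt E Γ w ∈ ce ((Zl K).map ψ) ↔ cB k M (idP k n) (Ls.map Lev.b) c t.q w = true) := by
  obtain ⟨ι, hι⟩ := H56.exists_hom t hK
  let e := (RingEquiv.ofBijective ι hι).symm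
  let f : K → ℕ := fun a => (e a : Fin t.q).val
  have f1 : ∀ a, f a < t.q := fun a => (e a : Fin t.q).2
  have f2 : ∀ i < t.q, ∃ a, f a = i := fun i hi => 
    ⟨e.symm (⟨i, hi⟩ : Fin t.q), congrArg Fin.val (e.apply_symm_apply _)⟩
  have f3 : ∀ a, f a = 0 ↔ a = 0 := fun a =>
    ⟨fun h => e.injective ((Fin.ext h : e a = 0).trans (map_zero e).symm),
      fun h => by rw [h]; exact congrArg Fin.val (map_zero e)⟩
  have f4 : ∀ a b, f (a + b) = op2 t.b t.B t.A (f a) (f b) := fun a b =>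
    congrArg Fin.val (map_add e a b)
  have f5 : ∀ a b, f (a * b) = op2 t.b t.B t.T (f a) (f b) := fun a b =>
    congrArg Fin.val (map_mul e a b)
  have f6 : f 1 = 1 := congrArg Fin.val (map_one e)
  clear_value f
  have hin' := inG_of_memOK hC hin
  simp only [List.mem_append] at hin'
  have i1 := Enc.inG_nthD (L := s) fun P h => hin' P (.inl h)
  have i2 := Enc.inG_nthD (L := v) fun P h => hin' P (.inr (.inl h))
  have i3 := Enc.inG_nthD (L := r) fun P h => hin' P (.inr (.inr (.inl h)))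
  have i4 := Enc.inG_nthD (L := c) fun P h => hin' P (.inr (.inr (.inr h)))
  simp (disch := simp [i1, i2, i3, i4]) only [relB, wq, Bool.and_eq_true, allN_iff, allL_iff,
    bimp_iff, beq_iff, List.forall_mem_cons, List.not_mem_nil, false_imp_iff, implies_true,
    word_eq_iff hC, List.map_cons, List.map_nil, List.prod_cons, List.prod_nil, mul_one,
    and_true] at h
  replace h := And.intro h.1 fun a b => h.2 _ (f1 a) _ (f1 b)
  obtain ⟨ψ, hψ⟩ := SP4.exists_hom (K := K) (by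
      rw [← f3, ← one_add_one_eq_two, f4, f6, h.1])
    (s := fun a => elt E Γ (nthD s (idP k n) (f a))) (v := fun a => elt E Γ (nthD v (idP k n) (f a)))
    (r := fun a => elt E Γ (nthD r (idP k n) (f a))) (c := fun a => elt E Γ (nthD c (idP k n) (f a)))
    (fun a b => f4 a b ▸ (h.2 a b).1.1.1.1) (fun a b => f4 a b ▸ (h.2 a b).1.1.1.2.1)
    (fun a b => f4 a b ▸ (h.2 a b).1.1.1.2.2.1) (fun a b => f4 a b ▸ (h.2 a b).1.1.1.2.2.2)
    (fun a b => (h.2 a b).1.1.2.1) (fun a b => (h.2 a b).1.1.2.2.1)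
    (fun a b => (h.2 a b).1.1.2.2.2.1) (fun a b => (h.2 a b).1.1.2.2.2.2.1)
    (fun a b => (h.2 a b).1.1.2.2.2.2.2)
    (fun a b => by rw [sq, f5, f5, f5]; simpa only [mul_assoc] using (h.2 a b).1.2)
  simp only [mul_assoc] at hψ
  have key : ∀ w, E.InG Γ w → ∀ (H : Subgroup (U K)) n1 n2 n3 n4, n1 ≤ t.q → n2 ≤ t.q → n3 ≤ t.q →
      n4 ≤ t.q → (∀ a, a ∈ H ↔ f a.t < n1 ∧ f a.x < n2 ∧ f a.y < n3 ∧ f a.z < n4) →
      (Nm ψ H (elt E Γ w) ↔ nB k M (idP k n) (Ls.map Lev.b) s v r c n1 n2 n3 n4 w = true) :=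
    fun w hw H n1 n2 n3 n4 l1 l2 l3 l4 hH => by
    simp (disch := simp [i1, i2, i3, i4, hw]) only [nB, wq, allN_iff, anyN_iff, word_eq_iff hC,
      List.map_cons, List.map_nil, List.prod_cons, List.prod_nil, mul_one, List.cons_append,
      List.nil_append, Nm, hψ, hH, mul_assoc]
    refine ⟨fun g a ha b hb d hd j hj => ?_, fun g a ha => ?_⟩
    · obtain ⟨a, rfl⟩ := f2 a (by omega)
      obtain ⟨b, rfl⟩ := f2 b (by omega)
      obtain ⟨d, rfl⟩ := f2 d (by omega)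
      obtain ⟨j, rfl⟩ := f2 j (by omega)
      obtain ⟨u, hu, e⟩ := g ⟨a, b, d, j⟩ ⟨ha, hb, hd, hj⟩
      exact ⟨_, hu.1, _, hu.2.1, _, hu.2.2.1, _, hu.2.2.2, e⟩
    · obtain ⟨a, ha, b, hb, d, hd, j, hj, e⟩ := g _ ha.1 _ ha.2.1 _ ha.2.2.1 _ ha.2.2.2
      obtain ⟨a, rfl⟩ := f2 a (by omega)
      obtain ⟨b, rfl⟩ := f2 b (by omega)
      obtain ⟨d, rfl⟩ := f2 d (by omega)
      obtain ⟨j, rfl⟩ := f2 j (by omega)
      exact ⟨⟨a, b, d, j⟩, ⟨ha, hb, hd, hj⟩, e⟩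
  have l : 1 ≤ t.q := one_le_two.trans t.laws.two_le
  refine ⟨ψ, (injective_iff_map_eq_one ψ).2 fun a ha => ?_, fun w hw => ⟨
    key w hw _ _ _ _ _ le_rfl le_rfl le_rfl le_rfl (by simp [f1]),
    key w hw _ _ _ _ _ l le_rfl le_rfl le_rfl (by simp [f1, f3]),
    key w hw _ _ _ _ _ le_rfl l le_rfl le_rfl (by simp [f1, f3]),
    key w hw _ _ _ _ _ l l le_rfl le_rfl (by simp [f1, f3]),
    key w hw _ _ _ _ _ l l l le_rfl (by simp [f1, f3]), ?_⟩⟩
  · have := (h.2 a.t a.x).2 _ (f1 a.y) _ (f1 a.z) (hψ a ▸ ha)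
    simp only [f3] at this
    exact U.ext this.1.1.1 this.1.1.2 this.1.2 this.2
  · have z : ∀ {l : List ℕ}, elt E Γ (nthD l (idP k n) (op2 t.b t.B t.A (f 0) (f 0))) =
        elt E Γ (nthD l (idP k n) (f 0)) * elt E Γ (nthD l (idP k n) (f 0)) →
        elt E Γ (nthD l (idP k n) (f 0)) = 1 := fun g => by
      rwa [← f4, add_zero, left_eq_mul] at g
    have hc : ∀ j, ψ ⟨0, 0, 0, j⟩ = elt E Γ (nthD c (idP k n) (f j)) := fun j => by
      rw [hψ, z (h.2 0 0).1.1.1.1, z (h.2 0 0).1.1.1.2.1, z (h.2 0 0).1.1.1.2.2.1]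
      simp
    simp (disch := simp [i4, hw]) only [cB, allN_iff, word_eq_iff hC,
      List.map_cons, List.map_nil, List.prod_cons, List.prod_nil, mul_one]
    refine ⟨fun g j hj => ?_, fun g => ?_⟩
    · obtain ⟨j, rfl⟩ := f2 j hj
      exact (g _ ⟨⟨0, 0, 0, j⟩, ⟨rfl, rfl, rfl⟩, hc j⟩).symm
    · rintro _ ⟨⟨a, b, d, j⟩, ⟨rfl, rfl, rfl⟩, rfl⟩
      exact hc j ▸ (g _ (f1 j)).symm

theorem le_of_gens {α : Type} {n k M : ℕ} {E : Enc α n k M} {gens : List ℕ}
    (hv : allL gens (valid k M n) = true) {H : Subgroup (E.grp gens)}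
    (h : ∀ P ∈ gens, elt E (E.grp gens) P ∈ H) (g : E.grp gens) : g ∈ H := by
  have : E.grp gens ≤ H.map (E.grp gens).subtype := Enc.grp_le fun P hP =>
    ⟨_, ⟨_, h P hP, rfl⟩, pk_elt (Enc.inG_grp_of_valid hv P hP)⟩
  obtain ⟨v, hv, e⟩ := this g.2
  exact (Subtype.ext e : v = g) ▸ hv

abbrev E2 : Enc (Fin 8) 8 3 8 := finEnc 8 3 8 rfl (by decide)
abbrev E4 : Enc (Fin 357) 357 9 512 := finEnc 357 9 512 rfl (by decide)

theorem chain2 : E2.IsChain cert2L (E2.grp gens2) := chain_grp (cert := cert2) (by decide +kernel)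
theorem chain4 : E4.IsChain cert4L (E4.grp gens4) := chain_grp (cert := cert4) (by decide +kernel)

end MD

open H14 H56 ON MD

variable {K : Type*} [Field K] [Fintype K]

theorem model2 (hK : Fintype.card K = 2) :
    ∃ (G : Type) (_ : Group G) (_ : Finite G) (ψ : U K →* G), Md ψ := by
  obtain ⟨ψ, hi, h⟩ := exists_model F2 chain2 (s := s2) (v := v2) (r := r2) (c := c2)
    (by decide +kernel) (by decide +kernel) hK
  have hw := Enc.inG_nthD (inG_of_memOK chain2 (l := w2) (by decide +kernel))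
  have hv : allL gens2 (valid 3 8 8) = true := by decide +kernel
  have hz : (allL gens2 fun w => nB 3 8 (idP 3 8) (cert2L.map Lev.b) s2 v2 r2 c2 1 1 1 F2.q w) =
    true := by decide +kernel
  exact ⟨_, _, inferInstance, _, md_of hi (e := 1) (m := 45) hK (by decide)
    (chain2.card.trans (by decide +kernel)) ((h _ (hw 0)).2.1.2 (by decide +kernel))
    (mt (h _ (hw 0)).2.2.2.1.1 (by decide +kernel)) ((h _ (hw 1)).2.2.1.2 (by decide +kernel))
    (mt (h _ (hw 1)).2.2.2.1.1 (by decide +kernel)) ⊤ (fun _ => trivial) trivial trivial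
    fun g _ => nm_iff.1 (le_of_gens hv (fun P hP => nm_iff.2
      ((h P (Enc.inG_grp_of_valid hv P hP)).2.2.2.2.1.2 (allL_iff.1 hz P hP))) g)⟩

theorem model4 (hK : Fintype.card K = 4) (b : Prop) :
    ∃ (G : Type) (_ : Group G) (_ : Finite G) (ψ : U K →* G),
      Md ψ ∧ (nm ψ.range ≤ ce ((Zl K).map ψ) ↔ b) := by
  obtain ⟨ψ, hi, h⟩ := exists_model F4 chain4 (s := s4) (v := v4) (r := r4) (c := c4)
    (by decide +kernel) (by decide +kernel) hK
  have hw := Enc.inG_nthD (inG_of_memOK chain4 (l := w4) (by decide +kernel))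
  have hv : allL gens4 (valid 9 512 357) = true := by decide +kernel
  have hz : (allL gens4 fun w =>
    nB 9 512 (idP 9 357) (cert4L.map Lev.b) s4 v4 r4 c4 1 1 1 F4.q w) = true := by decide +kernel
  have key := md_of hi (e := 2) (m := 945) hK (by decide)
    (chain4.card.trans (by decide +kernel)) ((h _ (hw 0)).2.1.2 (by decide +kernel))
    (mt (h _ (hw 0)).2.2.2.1.1 (by decide +kernel)) ((h _ (hw 1)).2.2.1.2 (by decide +kernel))
    (mt (h _ (hw 1)).2.2.2.1.1 (by decide +kernel))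
  by_cases hb : b
  · have h2 : (2 : K) = 0 := by
      have := FiniteField.cast_card_eq_zero K
      rw [hK] at this
      exact mul_self_eq_zero.1 (by rw [← this]; norm_num)
    have hψ : ∀ a, ψ a ∈ ce ((Zl K).map ψ) := by
      rintro a _ ⟨u, ⟨h1, h3, h4⟩, rfl⟩
      rw [← map_mul, ← map_mul]
      congr 1
      ext <;> simp [h1, h3, h4, add_comm]
    refine ⟨_, _, inferInstance, _, key _ hψ ((h _ (hw 0)).2.2.2.2.2.2 (by decide +kernel))
      ((h _ (hw 1)).2.2.2.2.2.2 (by decide +kernel))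
      fun g hg a ha => ⟨a, ha, (hg _ ⟨a, ha, rfl⟩).symm⟩, iff_of_true (fun g _ => ?_) hb⟩
    rintro _ ⟨a, ha, rfl⟩
    exact Subtype.ext (g.2 _ ⟨a, ha, rfl⟩)
  · refine ⟨_, _, inferInstance, _, key ⊤ (fun _ => trivial) trivial trivial
      fun g _ => nm_iff.1 (le_of_gens hv (fun P hP => nm_iff.2
        ((h P (Enc.inG_grp_of_valid hv P hP)).2.2.2.2.1.2 (allL_iff.1 hz P hP))) g),
      iff_of_false (fun g => mt (h _ (hw 2)).2.2.2.2.2.1 (by decide +kernel) ?_) hb⟩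
    rw [MonoidHom.range_eq_map] at g
    have := g (x := ⟨_, trivial⟩) (nm_iff.2 fun a ha =>
      ((h _ (hw 2)).1.2 (by decide +kernel) a ha).imp fun u hu => ⟨hu.1, Subtype.ext hu.2⟩)
    rintro _ ⟨a, ha, rfl⟩
    exact congrArg Subtype.val (this _ ⟨a, ha, rfl⟩)

end Cfsg.Agent.SP4
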