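import Cfsg.Agent.SR3.Sp

/-! Project SP4: the Sylow subgroup of `Sp₄(K)` in coordinates. -/

set_option autoImplicit false

namespace Cfsg.Agent.SP4

open Subgroup Cfsg.Agent.SR3
open scoped commutatorElement

/-- Quadruples with the multiplication of the unipotent subgroup of `Sp₄`. -/
@[ext] structure U (K : Type*) where
  t : K
  x : K
  y : K
  z : K

namespace U

variable {K K' : Type*} [CommRing K] [CommRing K']

instance instMulU : Mul (U K) := ⟨fun a b =>
  ⟨a.t + b.t, a.x + b.x, a.y + b.y + a.t * b.x, a.z + b.z + 2 * a.t * b.y + a.t ^ 2 * b.x⟩⟩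
instance instOneU : One (U K) := ⟨⟨0, 0, 0, 0⟩⟩
instance instInvU : Inv (U K) := ⟨fun a =>
  ⟨-a.t, -a.x, a.t * a.x - a.y, 2 * a.t * a.y - a.z - a.t ^ 2 * a.x⟩⟩

@[simp] theorem mul_t (a b : U K) : (a * b).t = a.t + b.t := rfl
@[simp] theorem mul_x (a b : U K) : (a * b).x = a.x + b.x := rfl
@[simp] theorem mul_y (a b : U K) : (a * b).y = a.y + b.y + a.t * b.x := rfl
@[simp] theorem mul_z (a b : U K) :
    (a * b).z = a.z + b.z + 2 * a.t * b.y + a.t ^ 2 * b.x := rfl
@[simp] theorem one_t : (1 : U K).t = 0 := rfl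
@[simp] theorem one_x : (1 : U K).x = 0 := rfl
@[simp] theorem one_y : (1 : U K).y = 0 := rfl
@[simp] theorem one_z : (1 : U K).z = 0 := rfl
@[simp] theorem inv_t (a : U K) : a⁻¹.t = -a.t := rfl
@[simp] theorem inv_x (a : U K) : a⁻¹.x = -a.x := rfl
@[simp] theorem inv_y (a : U K) : a⁻¹.y = a.t * a.x - a.y := rfl
@[simp] theorem inv_z (a : U K) : a⁻¹.z = 2 * a.t * a.y - a.z - a.t ^ 2 * a.x := rfl

instance instGroupU : Group (U K) := Group.ofLeftAxioms
  (fun a b c => by ext <;> simp <;> ring) (fun a => by ext <;> simp)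
  (fun a => by ext <;> simp; ring)

theorem comm_eq (a b : U K) : ⁅a, b⁆ = ⟨0, 0, a.t * b.x - b.t * a.x,
    2 * a.t * b.y - 2 * b.t * a.y + a.t ^ 2 * b.x - b.t ^ 2 * a.x⟩ := by
  rw [commutatorElement_def]; ext <;> simp <;> ring

theorem conj_eq (a b : U K) : a * b * a⁻¹ = ⟨b.t, b.x, b.y + a.t * b.x - b.t * a.x,
    b.z + 2 * a.t * b.y - 2 * b.t * a.y + a.t ^ 2 * b.x - b.t ^ 2 * a.x⟩ := by
  ext <;> simp <;> ring

/-- The underlying quadruple. -/
def equiv : U K ≃ K × K × K × K :=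
  ⟨fun a => (a.t, a.x, a.y, a.z), fun a => ⟨a.1, a.2.1, a.2.2.1, a.2.2.2⟩, fun _ => rfl,
    fun _ => rfl⟩

instance instFiniteU [Finite K] : Finite (U K) := Finite.of_equiv _ equiv.symm

/-- Change of the ring. -/
def map (e : K →+* K') : U K →* U K' :=
  MonoidHom.mk' (fun a => ⟨e a.t, e a.x, e a.y, e a.z⟩) fun a b => by ext <;> simp [map_ofNat]

end U

variable (K : Type*) [CommRing K]

/-- `t = 0` -/
def A1 : Subgroup (U K) where
  carrier := {a | a.t = 0}
  one_mem' := rfl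
  mul_mem' := fun {a b} (ha : a.t = 0) (hb : b.t = 0) => show a.t + b.t = 0 by simp [ha, hb]
  inv_mem' := fun {a} (ha : a.t = 0) => show -a.t = 0 by simp [ha]

/-- `x = c t` -/
def Qc {K : Type*} [CommRing K] (c : K) : Subgroup (U K) where
  carrier := {a | a.x = c * a.t}
  one_mem' := (mul_zero c).symm
  mul_mem' := fun {a b} (ha : a.x = _) (hb : b.x = _) => show a.x + b.x = c * (a.t + b.t) by
    rw [ha, hb, mul_add]
  inv_mem' := fun {a} (ha : a.x = _) => show -a.x = c * -a.t by rw [ha, mul_neg]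

/-- `x = 0` -/
def A2 : Subgroup (U K) where
  carrier := {a | a.x = 0}
  one_mem' := rfl
  mul_mem' := fun {a b} (ha : a.x = 0) (hb : b.x = 0) => show a.x + b.x = 0 by simp [ha, hb]
  inv_mem' := fun {a} (ha : a.x = 0) => show -a.x = 0 by simp [ha]

/-- `t = x = 0` -/
def Y : Subgroup (U K) := A1 K ⊓ A2 K

/-- `t = x = y = 0` -/
def Zl : Subgroup (U K) where
  carrier := {a | a.t = 0 ∧ a.x = 0 ∧ a.y = 0}
  one_mem' := ⟨rfl, rfl, rfl⟩
  mul_mem' := fun {a b} ha hb => by simp [ha.1, ha.2.1, ha.2.2, hb.1, hb.2.1, hb.2.2]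
  inv_mem' := fun {a} ha => by simp [ha.1, ha.2.1, ha.2.2]

variable {K} {a : U K}

@[simp] theorem mem_A1 : a ∈ A1 K ↔ a.t = 0 := Iff.rfl
@[simp] theorem mem_A2 : a ∈ A2 K ↔ a.x = 0 := Iff.rfl
@[simp] theorem mem_Qc {c : K} : a ∈ Qc c ↔ a.x = c * a.t := Iff.rfl
@[simp] theorem mem_Y : a ∈ Y K ↔ a.t = 0 ∧ a.x = 0 := Iff.rfl
@[simp] theorem mem_Zl : a ∈ Zl K ↔ a.t = 0 ∧ a.x = 0 ∧ a.y = 0 := Iff.rfl

variable {G : Type*} [Group G]

/-- In characteristic two: a homomorphism on `U K` from four root subgroups. -/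
theorem exists_hom (h2 : (2 : K) = 0) {s v r c : K → G}
    (hs : ∀ a b, s (a + b) = s a * s b) (hv : ∀ a b, v (a + b) = v a * v b)
    (hr : ∀ a b, r (a + b) = r a * r b) (hc : ∀ a b, c (a + b) = c a * c b)
    (sr : ∀ a b, Commute (s a) (r b)) (sc : ∀ a b, Commute (s a) (c b))
    (vr : ∀ a b, Commute (v a) (r b)) (vc : ∀ a b, Commute (v a) (c b))
    (rc : ∀ a b, Commute (r a) (c b))
    (sv : ∀ a b, s a * v b = v b * r (a * b) * c (a ^ 2 * b) * s a) :
    ∃ ψ : U K →* G, ∀ a, ψ a = v a.x * r a.y * c a.z * s a.t := by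
  refine ⟨MonoidHom.mk' (fun a => v a.x * r a.y * c a.z * s a.t) fun a b => ?_, fun _ => rfl⟩
  simp only [U.mul_t, U.mul_x, U.mul_y, U.mul_z, h2, zero_mul, add_zero, hs, hv, hr, hc]
  symm
  calc _ = v a.x * r a.y * c a.z * (s a.t * v b.x) * r b.y * c b.z * s b.t := by group
    _ = v a.x * (r a.y * (c a.z * v b.x)) * r (a.t * b.x) * c (a.t ^ 2 * b.x) * (s a.t * r b.y) *
      c b.z * s b.t := by rw [sv]; group
    _ = v a.x * v b.x * r a.y * (c a.z * r (a.t * b.x)) * (c (a.t ^ 2 * b.x) * r b.y) *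
      (s a.t * c b.z) * s b.t := by
        rw [← (vc _ _).eq, ← mul_assoc (r a.y), ← (vr _ _).eq, (sr _ _).eq]; group
    _ = v a.x * v b.x * r a.y * r (a.t * b.x) * (c a.z * r b.y) * (c (a.t ^ 2 * b.x) * c b.z) *
      s a.t * s b.t := by rw [← (rc _ _).eq, ← (rc _ _).eq, (sc _ _).eq]; group
    _ = v a.x * v b.x * r a.y * (r (a.t * b.x) * r b.y) * c a.z * (c (a.t ^ 2 * b.x) * c b.z) *
      s a.t * s b.t := by rw [← (rc _ _).eq]; group
    _ = _ := by rw [← hr, add_comm, hr, ← hc (_ * _), add_comm (_ * _), hc]; group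

/-- A finite group with Sylow `2`-subgroup `U K`, in which the long root subgroup is normal and
the centre of the Sylow subgroup is moved in the normalizers of both `A1` and `A2`. -/
structure Md (ψ : U K →* G) : Prop where
  inj : Function.Injective ψ
  syl : ∃ T : Sylow 2 G, (T : Subgroup G) = ψ.range
  nz : ((Zl K).map ψ).Normal
  m1 : ¬ nm ((A1 K).map ψ) ≤ nm ((Y K).map ψ)
  m2 : ¬ nm ((A2 K).map ψ) ≤ nm ((Y K).map ψ)

open Matrix SpAux in
theorem exists_emb (p : ℕ) [hp : Fact p.Prime] (K : Type*) [Field K] [Fintype K] [CharP K p]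
    (T : Sylow p (symplecticGroup (Fin 2) K)) : 
    Nonempty (U K ≃* (T : Subgroup (symplecticGroup (Fin 2) K))) := by
  have e : ∀ k r s t : K, sx k * su r s t = su (r + 2 * k * s + k ^ 2 * t) (s + k * t) t * sx k :=
    fun k r s t => Subtype.ext (by
      change fromBlocks _ _ _ _ * fromBlocks _ _ _ _ = fromBlocks _ _ _ _ * fromBlocks _ _ _ _
      rw [fromBlocks_multiply, fromBlocks_multiply]
      congr 1 <;> ext i j <;> fin_cases i <;> fin_cases j <;> simp <;> ring)
  let f : U K →* symplecticGroup (Fin 2) K := MonoidHom.mk' (fun a => su a.z a.y a.x * sx a.t)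
    fun a b => by
      rw [mul_assoc, ← mul_assoc (sx _), e, mul_assoc, sx_mul, ← mul_assoc, su_mul]
      simp [add_assoc]
  have hf : Function.Injective f := (injective_iff_map_eq_one f).2 fun a ha => by
    have := congrArg Subtype.val ha
    change fromBlocks _ _ _ _ * fromBlocks _ _ _ _ = 1 at this
    rw [fromBlocks_multiply] at this
    have h1 : a.t = 0 := by simpa using congrFun (congrFun this (.inl 0)) (.inl 1)
    have h2 : a.x = 0 := by simpa using congrFun (congrFun this (.inl 1)) (.inr 1)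
    have h3 : a.y = 0 := by simpa using congrFun (congrFun this (.inl 0)) (.inr 1)
    have h4 : a.z = 0 := by simpa [h3] using congrFun (congrFun this (.inl 0)) (.inr 0)
    exact U.ext h1 h2 h3 h4
  obtain ⟨n, -, hn⟩ := FiniteField.card K p
  have nd : ¬ p ∣ ∏ i ∈ Finset.range 2, ((p ^ (n : ℕ)) ^ (2 * (i + 1)) - 1) := fun hd => by
    obtain ⟨i, -, hi⟩ := hp.out.prime.exists_mem_finset_dvd hd
    exact hp.out.one_lt.ne' (Nat.dvd_one.1 ((Nat.dvd_sub_iff_right (Nat.one_le_pow _ _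
      (pow_pos hp.out.pos _)) (dvd_pow (dvd_pow_self p n.ne_zero) (by omega))).1 hi))
  have hc : Nat.card f.range = p ^ (Nat.card (symplecticGroup (Fin 2) K)).factorization p := by
    rw [← Nat.card_congr (MonoidHom.ofInjective hf).toEquiv, Nat.card_congr U.equiv,
      H9.card_symplecticGroup, Nat.factorization_mul (by positivity)
        (fun e => nd (by rw [← hn, e]; exact dvd_zero _)), Finsupp.add_apply, hn,
      Nat.factorization_eq_zero_of_not_dvd nd, ← pow_mul, hp.out.factorization_pow]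
    simp [hn]
    ring
  exact ⟨(MonoidHom.ofInjective hf).trans (Sylow.equiv (Sylow.ofCard _ hc) T)⟩

end Cfsg.Agent.SP4
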